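import Mathlib

/-!
# Affine Zariski coverings of inverse systems over cofinite posets
-/

set_option autoImplicit false
set_option backward.isDefEq.respectTransparency false
set_option backward.isDefEq.respectTransparency.types false

universe u v

open CategoryTheory CategoryTheory.Limits AlgebraicGeometry

noncomputable section

namespace Groth.Agent.ZarCov13

variable {Λ : Type v} [PartialOrder Λ] (X : Λᵒᵖ ⥤ Scheme.{u})

/-- The transition map. -/
abbrev tr {m l : Λ} (h : m ≤ l) : X.obj (Opposite.op l) ⟶ X.obj (Opposite.op m) := X.map (homOfLE h).op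

lemma tr_refl (l : Λ) : tr X (le_refl l) = 𝟙 _ := X.map_id _

lemma tr_comp {n m l : Λ} (h : n ≤ m) (h' : m ≤ l) : tr X h' ≫ tr X h = tr X (h.trans h') :=
  (X.map_comp _ _).symm

/-- A choice of an affine neighbourhood of each point, with finitely many values. -/
def Choice (l : Λ) : Type u :=
  {V : ↥(X.obj (Opposite.op l)) → (X.obj (Opposite.op l)).Opens //
    (Set.range V).Finite ∧ ∀ x, IsAffineOpen (V x) ∧ x ∈ V x}

variable (hΛ : ∀ l : Λ, (Set.Iic l).Finite) (hqc : ∀ l : Λ, CompactSpace ↥(X.obj (Opposite.op l)))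
  (hqs : ∀ l : Λ, QuasiSeparatedSpace ↥(X.obj (Opposite.op l)))

include hΛ hqc hqs in
theorem exists_next (l : Λ) (ih : ∀ m, m < l → Choice X m) :
    ∃ C : Choice X l, ∀ m (h : m < l) x, C.1 x ≤ tr X h.le ⁻¹ᵁ (ih m h).1 ((tr X h.le).base x) := by
  classical
  haveI := hqc l
  haveI := hqs l
  haveI : Finite {m : Λ // m < l} := ((hΛ l).subset fun m hm => le_of_lt hm).to_subtype
  haveI := Fintype.ofFinite {m : Λ // m < l}
  let R := ∀ m : {m : Λ // m < l}, Set.range (ih m.1 m.2).1
  haveI : ∀ m : {m : Λ // m < l}, Finite (Set.range (ih m.1 m.2).1) := fun m => (ih m.1 m.2).2.1.to_subtype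
  let W : R → (X.obj (Opposite.op l)).Opens := fun t =>
    (Finset.univ : Finset {m : Λ // m < l}).inf fun m => tr X m.2.le ⁻¹ᵁ (t m).1
  have hW : ∀ t, IsCompact (W t : Set ↥(X.obj (Opposite.op l))) := fun t => by
    change IsCompact (((Finset.univ : Finset {m : Λ // m < l}).inf fun m => tr X m.2.le ⁻¹ᵁ (t m).1 :
      (X.obj (Opposite.op l)).Opens) : Set ↥(X.obj (Opposite.op l)))
    induction (Finset.univ : Finset {m : Λ // m < l}) using Finset.induction_on with
    | empty => simpa using CompactSpace.isCompact_univ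
    | @insert a s ha hs =>
      rw [Finset.inf_insert, TopologicalSpace.Opens.coe_inf]
      haveI := hqs a.1
      obtain ⟨x, hx⟩ := (t a).2
      refine QuasiSeparatedSpace.inter_isCompact _ _ (tr X a.2.le ⁻¹ᵁ (t a).1).2 ?_ (TopologicalSpace.Opens.isOpen _) hs
      refine QuasiCompact.isCompact_preimage _ (t a).1.2 ?_
      rw [← hx]
      exact ((ih a.1 a.2).2.2 x).1.isCompact
  have hcov : ∀ t, ∃ s : Set (X.obj (Opposite.op l)).affineOpens, s.Finite ∧
      (W t : Set ↥(X.obj (Opposite.op l))) = ⋃ U ∈ s, ((U : (X.obj (Opposite.op l)).Opens) : Set _) :=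
    fun t => isCompact_and_isOpen_iff_finite_and_eq_biUnion_affineOpens.1 ⟨hW t, (W t).2⟩
  choose s hs hsW using hcov
  let t₀ : ↥(X.obj (Opposite.op l)) → R := fun x m => ⟨(ih m.1 m.2).1 ((tr X m.2.le).base x), _, rfl⟩
  have hx : ∀ x, ∃ U ∈ s (t₀ x), x ∈ (U : (X.obj (Opposite.op l)).Opens) := fun x => by
    have hmem : x ∈ (W (t₀ x) : Set ↥(X.obj (Opposite.op l))) := by
      simp only [W]
      induction (Finset.univ : Finset {m : Λ // m < l}) using Finset.induction_on with
      | empty => simp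
      | @insert a s ha hs =>
        rw [Finset.inf_insert]
        exact ⟨((ih a.1 a.2).2.2 _).2, hs⟩
    rw [hsW] at hmem
    simpa using hmem
  choose U hUs hxU using hx
  refine ⟨⟨fun x => (U x).1, ?_, fun x => ⟨(U x).2, hxU x⟩⟩, fun m h x => ?_⟩
  · refine ((Set.finite_iUnion fun t => hs t).image Subtype.val).subset ?_
    rintro _ ⟨x, rfl⟩
    exact ⟨U x, Set.mem_iUnion.2 ⟨_, hUs x⟩, rfl⟩
  · intro y hy
    have h1 : y ∈ (W (t₀ x) : Set ↥(X.obj (Opposite.op l))) := by
      rw [hsW]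
      exact Set.mem_biUnion (hUs x) hy
    exact (Finset.inf_le (f := fun m : {m : Λ // m < l} => tr X m.2.le ⁻¹ᵁ (t₀ x m).1)
      (Finset.mem_univ ⟨m, h⟩)) h1

include hΛ hqc hqs in
theorem exists_choice : ∃ C : ∀ l, Choice X l, ∀ m l (h : m ≤ l) x,
    (C l).1 x ≤ tr X h ⁻¹ᵁ (C m).1 ((tr X h).base x) := by
  have hwf : WellFounded ((· < ·) : Λ → Λ → Prop) := by
    refine Subrelation.wf (r := InvImage (· < ·) fun l => (hΛ l).toFinset.card) (fun {a b} h => ?_)
      (InvImage.wf _ wellFounded_lt)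
    exact Finset.card_lt_card (Set.Finite.toFinset_ssubset_toFinset.2 (Set.Iic_ssubset_Iic.2 h))
  choose F hF using exists_next X hΛ hqc hqs
  refine ⟨hwf.fix F, fun m l h x => ?_⟩
  obtain rfl | hlt := h.eq_or_lt
  · rw [tr_refl]
    exact le_rfl
  · have e := hwf.fix_eq F l
    rw [e]
    exact hF l _ m hlt x

include hΛ hqc hqs in
theorem exists_covering :
    ∃ (Y : Λᵒᵖ ⥤ Scheme.{u}) (π : Y ⟶ X), ∀ l : Λ,
      IsAffine (Y.obj (Opposite.op l)) ∧ Surjective (π.app (Opposite.op l)) ∧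
        ∃ (ι : Type u) (U : ι → (Y.obj (Opposite.op l)).Opens),
          Pairwise (fun i j => Disjoint (U i) (U j)) ∧ iSup U = ⊤ ∧
            ∀ i, IsOpenImmersion ((U i).ι ≫ π.app (Opposite.op l)) := by
  classical
  obtain ⟨C, hC⟩ := exists_choice X hΛ hqc hqs
  let Φ : ∀ l, ↥(X.obj (Opposite.op l)) → ∀ m : Set.Iic l, (X.obj (Opposite.op m.1)).Opens :=
    fun l x m => (C m.1).1 ((tr X m.2).base x)
  let J : Λ → Type (max u v) := fun l => Set.range (Φ l)
  haveI hJ : ∀ l, Finite (J l) := fun l => by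
    haveI := (hΛ l).to_subtype
    haveI : ∀ m : Set.Iic l, Finite (Set.range (C m.1).1) := fun m => (C m.1).2.1.to_subtype
    refine Finite.of_injective
      (fun (j : J l) (m : Set.Iic l) => (⟨j.1 m, by
        obtain ⟨x, hx⟩ := j.2
        exact ⟨(tr X m.2).base x, by rw [← hx]⟩⟩ : Set.range (C m.1).1))
      fun j j' h => Subtype.ext (funext fun m => congrArg Subtype.val (congrFun h m))
  let P : ∀ l, J l → (X.obj (Opposite.op l)).Opens := fun l j => j.1 ⟨l, le_refl l⟩
  have hP : ∀ l j, IsAffineOpen (P l j) := fun l j => by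
    obtain ⟨x, hx⟩ := j.2
    change IsAffineOpen (j.1 _)
    rw [← hx]
    exact ((C l).2.2 _).1
  haveI : ∀ l j, IsAffine ((P l j : (X.obj (Opposite.op l)).Opens).toScheme) := hP
  let res : ∀ {m l : Λ}, m ≤ l → J l → J m := fun {m l} h j => ⟨fun i => j.1 ⟨i.1, i.2.trans h⟩, by
    obtain ⟨x, hx⟩ := j.2
    refine ⟨(tr X h).base x, funext fun i => ?_⟩
    rw [← hx]
    change (C i.1).1 _ = (C i.1).1 _
    rw [← Scheme.Hom.comp_apply, tr_comp]⟩
  have hres : ∀ {m l : Λ} (h : m ≤ l) (j : J l), P l j ≤ tr X h ⁻¹ᵁ P m (res h j) := fun {m l} h j => by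
    obtain ⟨x, hx⟩ := j.2
    change j.1 ⟨l, le_refl l⟩ ≤ tr X h ⁻¹ᵁ j.1 ⟨m, h⟩
    rw [← hx]
    refine le_of_eq_of_le ?_ (hC m l h x)
    change (C l).1 _ = _
    rw [tr_refl]
    rfl
  let Y : Λᵒᵖ ⥤ Scheme.{u} :=
    { obj := fun l => ∐ fun j => (P l.unop j).toScheme
      map := fun {l m} f => Sigma.desc fun j =>
        (tr X (leOfHom f.unop)).resLE _ _ (hres (leOfHom f.unop) j) ≫
          Sigma.ι (fun j => (P m.unop j).toScheme) (res (leOfHom f.unop) j)
      map_id := fun l => by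
        refine Sigma.hom_ext _ _ fun j => ?_
        rw [Sigma.ι_desc, Category.comp_id]
        have : (tr X (le_refl l.unop)).resLE (P l.unop j) (P l.unop j) (hres (le_refl l.unop) j) = 𝟙 _ := by
          rw [← cancel_mono (P l.unop j).ι, Scheme.Hom.resLE_comp_ι, tr_refl, Category.comp_id, Category.id_comp]
        exact (congrArg (· ≫ Sigma.ι (fun j => (P l.unop j).toScheme) j) this).trans (Category.id_comp _)
      map_comp := fun {l m n} f g => by
        refine Sigma.hom_ext _ _ fun j => ?_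
        rw [Sigma.ι_desc, Sigma.ι_desc_assoc, Category.assoc, Sigma.ι_desc, ← Category.assoc]
        refine congrArg (· ≫ Sigma.ι (fun j => (P n.unop j).toScheme) _) ?_
        rw [← cancel_mono (P n.unop _).ι, Category.assoc, Scheme.Hom.resLE_comp_ι, Scheme.Hom.resLE_comp_ι,
          Scheme.Hom.resLE_comp_ι_assoc, tr_comp] }
  let π : Y ⟶ X :=
    { app := fun l => Sigma.desc fun j => (P l.unop j).ι
      naturality := fun l m f => by
        refine Sigma.hom_ext _ _ fun j => ?_
        simp only [Y, Sigma.ι_desc_assoc, Category.assoc, Sigma.ι_desc, Scheme.Hom.resLE_comp_ι]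
        rfl }
  refine ⟨Y, π, fun l => ⟨?_, ?_, ?_⟩⟩
  · change IsAffine (∐ fun j => (P l j).toScheme)
    infer_instance
  · refine ⟨fun x => ?_⟩
    let j : J l := ⟨Φ l x, x, rfl⟩
    have hx : x ∈ P l j := by
      change x ∈ (C l).1 _
      rw [tr_refl]
      exact ((C l).2.2 x).2
    refine ⟨(Sigma.ι (fun j => (P l j).toScheme) j).base ⟨x, hx⟩, ?_⟩
    rw [← Scheme.Hom.comp_apply]
    erw [Sigma.ι_desc]
    rfl
  · let e := equivShrink.{u} (J l)
    refine ⟨Shrink.{u} (J l), fun i => (Sigma.ι (fun j => (P l j).toScheme) (e.symm i)).opensRange,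
      fun i i' hii' => ?_, ?_, fun i => ?_⟩
    · simp only []
      rw [← TopologicalSpace.Opens.coe_disjoint, Set.disjoint_left]
      rintro _ ⟨a, rfl⟩ ⟨b, hb⟩
      exact hii' (e.symm.injective ((sigmaι_eq_iff (fun j => (P l j).toScheme) _ _ _ _).1 hb.symm |> fun h =>
        congrArg Sigma.fst h))
    · rw [eq_top_iff]
      rintro y -
      obtain ⟨j, a, ha⟩ := (sigmaOpenCover (fun j => (P l j).toScheme)).exists_eq y
      rw [TopologicalSpace.Opens.mem_iSup]
      refine ⟨e j, ?_⟩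
      rw [Equiv.symm_apply_apply]
      exact ⟨a, ha⟩
    · rw [← Scheme.Hom.isoOpensRange_inv_comp, Category.assoc]
      haveI : IsOpenImmersion (Sigma.ι (fun j => (P l j).toScheme) (e.symm i) ≫ π.app (Opposite.op l)) := by
        erw [Sigma.ι_desc]
        infer_instance
      exact inferInstanceAs (IsOpenImmersion (_ ≫ _))

end Groth.Agent.ZarCov13
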